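import Groth.Agent.CurveLib.TensorDeg
import Groth.Agent.CurveLib.DegTensor
import Groth.Agent.CliffCurveLib.Sections
import Groth.Agent.ShBCLib.Finrank
import Groth.Agent.RefOne.Divisor

/-!
# Twisting by the ideal of a closed point: sections
-/

set_option autoImplicit false
set_option backward.isDefEq.respectTransparency false
set_option backward.isDefEq.respectTransparency.types false
set_option linter.style.haveILetI false

universe u

open CategoryTheory CategoryTheory.Limits AlgebraicGeometry TopologicalSpace Opposite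
open Groth.Agent.PullbackMod Groth.Agent.DCohLib Groth.Agent.CurveLib Groth.Agent.H1ZeroLib

noncomputable section

namespace Groth.Agent.PointTwistLib

attribute [local instance] Curv2.resAlgebra

variable {k : Type u} [Field k] {X : Scheme.{u}} [X.Over (Spec (CommRingCat.of k))]
  [IsProper (X ↘ Spec (CommRingCat.of k))]

include k in
/-- The kernel of a closed point is its vanishing ideal. -/
theorem ker_fromSpecResidueField {x : X} (hx : IsClosed ({x} : Set X)) :
    (X.fromSpecResidueField x).ker = Scheme.IdealSheafData.vanishingIdeal (⟨{x}, hx⟩ : Closeds X) := by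
  haveI : IsClosedImmersion (X.fromSpecResidueField x) := isClosed_singleton_iff_isClosedImmersion.1 hx
  let q := X.fromSpecResidueField x
  have h1 : q.ker = Scheme.IdealSheafData.vanishingIdeal q.ker.support := by
    rw [Scheme.IdealSheafData.vanishingIdeal_support]
    refine le_antisymm (Scheme.IdealSheafData.le_radical _) fun U a ha => ?_
    rw [Scheme.Hom.ker_apply, RingHom.mem_ker]
    obtain ⟨n, hn⟩ := ha
    rw [Scheme.Hom.ker_apply, RingHom.mem_ker, map_pow] at hn
    exact IsReduced.eq_zero _ ⟨n, hn⟩
  rw [h1]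
  congr 1
  apply TopologicalSpace.Closeds.ext
  rw [Scheme.Hom.support_ker, q.isClosedEmbedding.isClosed_range.closure_eq, Scheme.range_fromSpecResidueField]
  rfl

variable (k) in
/-- The sections of a point are its residue field. -/
theorem finrank_H0_point {x : X} (hx : IsClosed ({x} : Set X)) :
    Module.finrank k (Coh.HH X (ClSub.quotMod (Scheme.IdealSheafData.vanishingIdeal (⟨{x}, hx⟩ : Closeds X))) 0) =
      Module.finrank k (X.residueField x) := by
  let J := Scheme.IdealSheafData.vanishingIdeal (⟨{x}, hx⟩ : Closeds X)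
  have hsupp : CohB1.support (ClSub.quotMod J) ⊆ ({x} : Set X) := by
    refine (IntLib.support_quotMod_subset J).trans ?_
    rw [Scheme.IdealSheafData.coe_support_vanishingIdeal]
    exact subset_rfl
  obtain ⟨a⟩ := exists_equiv_pi (k := k) hx hsupp (topologicalKrullDim_zero_of_discreteTopology ({x} : Set X))
  have hJ := (CliffCurveLib.stalkIdeal_point hx).1
  let g : X.presheaf.stalk x →ₗ[X.presheaf.stalk x] (ClSub.quotMod J).presheaf.stalk x :=
    LinearMap.toSpanSingleton _ _ (qv J x 1)
  have hg : Function.Surjective g := fun z => by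
    obtain ⟨r, rfl⟩ := qv_surjective J x z
    exact ⟨r, (qv_eq_smul J x r).symm⟩
  have hker : LinearMap.ker g = IsLocalRing.maximalIdeal (X.presheaf.stalk x) := by
    ext r
    rw [LinearMap.mem_ker, LinearMap.toSpanSingleton_apply, ← qv_eq_smul, qv_eq_zero_iff, hJ]
  let e : (X.presheaf.stalk x ⧸ IsLocalRing.maximalIdeal (X.presheaf.stalk x)) ≃ₗ[X.presheaf.stalk x]
      (ClSub.quotMod J).presheaf.stalk x :=
    (Submodule.quotEquivOfEq _ _ hker.symm).trans (g.quotKerEquivOfSurjective hg)
  let ea : X.residueField x ≃+ KStalk k (ClSub.quotMod J) x := e.toAddEquiv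
  let e' : X.residueField x ≃ₗ[k] KStalk k (ClSub.quotMod J) x := ea.toLinearEquiv fun c v => by
    obtain ⟨r, rfl⟩ := Submodule.Quotient.mk_surjective (IsLocalRing.maximalIdeal (X.presheaf.stalk x)) v
    exact e.map_smul (Curv2.stalkMap k X x c) (Submodule.Quotient.mk r)
  rw [a.finrank_eq, (LinearEquiv.piUnique k fun y : ({x} : Set X) => KStalk k (ClSub.quotMod J) y.1).finrank_eq]
  exact e'.finrank_eq.symm

/-- Twisting up by a closed point adds at most the degree of the residue field to `h⁰`. -/
theorem h0_point_bounds (hdim : topologicalKrullDim X ≤ 1) {x : X} (hx : IsClosed ({x} : Set X))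
    {L L' : X.Modules} (hL' : PicF.IsInvertible L')
    (e : L ≅ tmod L' (ClSub.idealMod (Scheme.IdealSheafData.vanishingIdeal (⟨{x}, hx⟩ : Closeds X)))) :
    Module.finrank k (Coh.HH X L 0) ≤ Module.finrank k (Coh.HH X L' 0) ∧
      Module.finrank k (Coh.HH X L' 0) ≤ Module.finrank k (Coh.HH X L 0) + Module.finrank k (X.residueField x) := by
  haveI := EulerIneqLib.isNoetherian_proper (X := X) k
  let J := Scheme.IdealSheafData.vanishingIdeal (⟨{x}, hx⟩ : Closeds X)
  let f := ClSub.idealModι J
  haveI : Mono f := inferInstanceAs (Mono (kernel.ι _))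
  have hE := freeAt_of_isFinLocFreeOfRank (CurveLib.isFinLocFreeOfRank_one hL')
  have hE' : Coh.IsCoh L' := CurveLib.isCoh_of_isFinLocFree fun y => by
    obtain ⟨U, hy, h⟩ := CurveLib.isFinLocFreeOfRank_one hL' y
    exact ⟨U, 1, hy, h⟩
  have hI : Coh.IsCoh (ClSub.idealMod J) := RefOne.isCoh_idealMod J
  have hO : Coh.IsCoh (Coh.structureModule X) := DevLib.isCoh_structureModule X
  haveI := mono_tmap f hE
  let i : L ⟶ L' := e.hom ≫ (tmodComm L' _).hom ≫ tmap f L' ≫ (tmodUnit L').hom
  haveI : Mono i := inferInstance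
  refine ⟨CliffCurveLib.h0_le_of_mono (k := k) i hE', ?_⟩
  haveI : Epi (ClSub.toSubscheme J) := HilbObsLib.epi_toSubscheme J
  let eQ : cokernel f ≅ ClSub.quotMod J := IsColimit.coconePointUniqueUpToIso (cokernelIsCokernel _)
    (Abelian.epiIsCokernelOfKernel _ (kernelIsKernel (ClSub.toSubscheme J)))
  have hsupp : CohB1.support (cokernel f) ⊆ ({x} : Set X) := fun y hy => by
    have h1 : y ∈ CohB1.support (ClSub.quotMod J) := fun h => hy
      (Equiv.ofBijective _ ((isIso_iff_stalk eQ.hom).1 inferInstance y)).subsingleton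
    have h2 := IntLib.support_quotMod_subset J h1
    rwa [Scheme.IdealSheafData.coe_support_vanishingIdeal] at h2
  have hd : topologicalKrullDim (CohB1.support (cokernel f)) ≤ 0 :=
    by
    haveI : Subsingleton ↥(CohB1.support (cokernel f)) := ⟨fun a b => Subtype.ext ((hsupp a.2).trans (hsupp b.2).symm)⟩
    exact topologicalKrullDim_zero_of_discreteTopology _
  have hIE := isCoh_tmod hI hE'
  have hOE := isCoh_tmod hO hE'
  have hQ' := (QCohLib.isCoh_kernel_cokernel (tmap f L') hIE hOE).2
  have hQ := (QCohLib.isCoh_kernel_cokernel f hI hO).2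
  have hsupp' : CohB1.support (cokernel (tmap f L')) ⊆ ({x} : Set X) := fun y hy => hsupp fun h =>
    hy (nonempty_stalk_coker_tmap f hE y).some.toEquiv.subsingleton
  have hd0 := topologicalKrullDim_zero_of_discreteTopology ({x} : Set X)
  have heul := euler_eq_mul (k := k) hQ hQ' hx hsupp hd0 1 fun y => nonempty_stalk_coker_tmap f hE y
  have h1 : ∀ {R : X.Modules}, CohB1.support R ⊆ ({x} : Set X) →
      Curv2.euler k X R = Module.finrank k (Coh.HH X R 0) := fun {R} hR => by
    rw [euler_eq_sum (K := k) R 1 fun p hp => subsingleton_HH_of_support R hx hR (d := 0) hd0 hp]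
    simp
  rw [h1 hsupp', h1 hsupp, Nat.cast_one, one_mul, ShBCLib.finrank_HH_iso eQ, finrank_H0_point k hx] at heul
  have h2 := (EulerIneqLib.ineqs (k := k) _ (DevLib.cokerSeq_shortExact (tmap f L')) hIE hOE hQ').2.2 0
  rw [ShBCLib.finrank_HH_iso (e ≪≫ tmodComm L' _), ← ShBCLib.finrank_HH_iso (tmodUnit L')]
  have h3 : Module.finrank k (Coh.HH X (cokernel (tmap f L')) 0) = Module.finrank k (X.residueField x) := by
    exact_mod_cast heul
  change Module.finrank k (Coh.HH X (tmod (Coh.structureModule X) L') 0) ≤
    Module.finrank k (Coh.HH X (tmod (ClSub.idealMod J) L') 0) + Module.finrank k (Coh.HH X (cokernel (tmap f L')) 0) at h2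
  show Module.finrank k (Coh.HH X (tmod (Coh.structureModule X) L') 0) ≤
    Module.finrank k (Coh.HH X (tmod (ClSub.idealMod J) L') 0) + Module.finrank k (X.residueField x)
  omega

end Groth.Agent.PointTwistLib
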