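import Groth.Agent.PointTwistLib.Basic
import Groth.Agent.MeroLib.Mul
import Groth.Agent.MeroLib.Curve
import Groth.Agent.CurveLib.SmulPow
import Groth.Agent.S19458
import Groth.Agent.S1604
import Groth.Agent.S5096

/-!
# Sections of the modules of divisors on curves
-/

set_option autoImplicit false
set_option backward.isDefEq.respectTransparency false
set_option backward.isDefEq.respectTransparency.types false
set_option linter.style.haveILetI false

universe u

open CategoryTheory CategoryTheory.Limits AlgebraicGeometry TopologicalSpace Opposite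
open Groth.Agent.PullbackMod Groth.Agent.DCohLib Groth.Agent.CurveLib Groth.Agent.ParaFLib

noncomputable section

namespace Groth.Agent.PointTwistLib

variable {X : Scheme.{u}}

/-- The germ of `1` at a point is a regular equation times the local generator. -/
theorem exists_germ_one (E : Mero.Divisor X) (hE : Mero.IsEffective E) (x : X) :
    ∃ (a : X.presheaf.stalk x) (e : (Mero.divMod E).presheaf.stalk x), a ∈ nonZeroDivisors (X.presheaf.stalk x) ∧
      Function.Bijective (fun r : X.presheaf.stalk x => r • e) ∧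
      (Mero.divMod E).presheaf.germ ⊤ x trivial (S19458.one E hE) = a • e := by
  obtain ⟨W, f, hf, g, hx, hg, hgf⟩ := MeroLib.exists_regular_equation hE x
  refine ⟨X.presheaf.germ W x hx f, (Mero.divMod E).presheaf.germ W x hx (MeroLib.invSec g hg), hf ⟨x, hx⟩,
    (MeroLib.gen_invSec g hg).bijective_germ x hx, ?_⟩
  rw [← ParaFLib.germ_smul']
  refine (TopCat.Presheaf.germ_res_apply (Mero.divMod E).presheaf (homOfLE (le_top : W ≤ ⊤)) x hx _).symm.trans ?_
  refine congrArg _ (Subtype.ext (funext fun y => ?_))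
  show (1 : Mero.KStalk X y.1) = X.presheaf.germ W y.1 y.2 f • Mero.evalK X W y (g⁻¹ : (Γ(Mero.kmod X, W))ˣ).val
  rw [Algebra.smul_def]
  refine Eq.symm ((congrArg (· * _) (hgf y).symm).trans ?_)
  rw [← map_mul, Units.mul_inv, map_one]

/-- The inclusion of the structure module in the module of a positive divisor. -/
abbrev incl (E : Mero.Divisor X) (hE : Mero.IsEffective E) : Coh.structureModule X ⟶ Mero.divMod E :=
  DCohLib.secHom _ (S19458.one E hE)

theorem stalk_incl (E : Mero.Divisor X) (hE : Mero.IsEffective E) (x : X) :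
    Function.Injective (stalkLin (incl E hE) x) ∧
      ((∀ a ∈ nonZeroDivisors (X.presheaf.stalk x), IsUnit a) → Function.Bijective (stalkLin (incl E hE) x)) := by
  obtain ⟨a, e, ha, he, h1⟩ := exists_germ_one E hE x
  have h2 : ∀ r : X.presheaf.stalk x, stalkLin (incl E hE) x (r • oneG x) = (r * a) • e := fun r => by
    rw [map_smul, stalkLin_secHom, h1, smul_smul]
  refine ⟨(injective_iff_map_eq_zero _).2 fun z hz => ?_, fun hu => ⟨?_, fun z => ?_⟩⟩
  · obtain ⟨r, rfl⟩ := (bijective_oneG x).2 z
    change stalkLin (incl E hE) x (r • oneG x) = 0 at hz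
    rw [h2] at hz
    have h3 : r * a = 0 := he.1 (hz.trans (zero_smul _ e).symm)
    show r • oneG x = 0
    rw [mem_nonZeroDivisors_iff_right.1 ha r h3, zero_smul]
  · refine (injective_iff_map_eq_zero _).2 fun z hz => ?_
    obtain ⟨r, rfl⟩ := (bijective_oneG x).2 z
    change stalkLin (incl E hE) x (r • oneG x) = 0 at hz
    rw [h2] at hz
    have h3 : r * a = 0 := he.1 (hz.trans (zero_smul _ e).symm)
    show r • oneG x = 0
    rw [mem_nonZeroDivisors_iff_right.1 ha r h3, zero_smul]
  · obtain ⟨r, rfl⟩ := he.2 z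
    obtain ⟨u, rfl⟩ := hu a ha
    refine ⟨(r * ↑u⁻¹) • oneG x, ?_⟩
    rw [h2, mul_assoc, Units.inv_mul, mul_one]

variable {k : Type u} [Field k] [X.Over (Spec (CommRingCat.of k))] [IsProper (X ↘ Spec (CommRingCat.of k))]

/-- Monotonicity of `h⁰` in the divisor, and its bound. -/
theorem h0_divMod_bounds (hdim : topologicalKrullDim X ≤ 1) (D D' : Mero.Divisor X) (hle : Mero.DivLE D' D) :
    Module.finrank k (Coh.HH X (Mero.divMod D') 0) ≤ Module.finrank k (Coh.HH X (Mero.divMod D) 0) ∧
      (Module.finrank k (Coh.HH X (Mero.divMod D) 0) : ℤ) ≤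
        (Module.finrank k (Coh.HH X (Mero.divMod D') 0) : ℤ) + Curv2.deg k X (Mero.divMod (D * D'⁻¹)) 1 := by
  haveI := EulerIneqLib.isNoetherian_proper (X := X) k
  let E : Mero.Divisor X := D * D'⁻¹
  let f := incl E hle
  haveI : Mono f := (mono_iff_stalk f).2 fun x => (stalk_incl E hle x).1
  have hinv := S5096.result X D'
  have hF := freeAt_of_isFinLocFreeOfRank (CurveLib.isFinLocFreeOfRank_one hinv)
  have hcoh : ∀ D₀ : Mero.Divisor X, Coh.IsCoh (Mero.divMod D₀) := fun D₀ => CurveLib.isCoh_of_isFinLocFree fun y => by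
    obtain ⟨U, hy, h⟩ := CurveLib.isFinLocFreeOfRank_one (S5096.result X D₀) y
    exact ⟨U, 1, hy, h⟩
  have hO : Coh.IsCoh (Coh.structureModule X) := DevLib.isCoh_structureModule X
  haveI := mono_tmap f hF
  haveI := MeroLib.isIso_mulHom E D'
  have hED : E * D' = D := by simp only [E, inv_mul_cancel_right]
  let eD : tmod (Mero.divMod E) (Mero.divMod D') ≅ Mero.divMod D :=
    asIso (MeroLib.mulHom E D') ≪≫ eqToIso (by rw [hED])
  let eD' : tmod (Coh.structureModule X) (Mero.divMod D') ≅ Mero.divMod D' := tmodUnit _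
  let i : Mero.divMod D' ⟶ Mero.divMod D := eD'.inv ≫ tmap f (Mero.divMod D') ≫ eD.hom
  haveI : Mono i := inferInstance
  have hQ := (QCohLib.isCoh_kernel_cokernel f hO (hcoh E)).2
  have hC : IsClosed (CohB1.support (cokernel f)) := DevLib.isClosed_support hQ
  have hd : topologicalKrullDim (CohB1.support (cokernel f)) ≤ 0 :=
    S1604.dim_le_zero_of_specializes hdim hC fun x hx => by
      by_contra hc
      push Not at hc
      have h0 : ringKrullDim (X.presheaf.stalk x) ≤ 0 := by
        have hcz : Order.coheight x = 0 := Order.coheight_eq_zero.2 fun z hz => hc z hz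
        rw [ringKrullDim_stalk_eq_coheight, hcz]
        rfl
      have hbij := (stalk_incl E hle x).2 (fun a ha => MeroLib.isUnit_of_dim_zero h0 a ha)
      refine hx ⟨fun a b => ?_⟩
      obtain ⟨a', rfl⟩ := DevLib.coker_surjective f x a
      obtain ⟨b', rfl⟩ := DevLib.coker_surjective f x b
      rw [(DevLib.coker_exact f x a').2 (hbij.2 a'), (DevLib.coker_exact f x b').2 (hbij.2 b')]
  refine ⟨CliffCurveLib.h0_le_of_mono (k := k) i (hcoh D), ?_⟩
  have hI := isCoh_tmod hO (hcoh D')
  have hL := isCoh_tmod (hcoh E) (hcoh D')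
  have hQ' := (QCohLib.isCoh_kernel_cokernel (tmap f (Mero.divMod D')) hI hL).2
  have hsupp' : CohB1.support (cokernel (tmap f (Mero.divMod D'))) ⊆ CohB1.support (cokernel f) :=
    fun y hy h => hy (nonempty_stalk_coker_tmap f hF y).some.toEquiv.subsingleton
  have h1 : Curv2.euler k X (cokernel (tmap f (Mero.divMod D'))) =
      Module.finrank k (Coh.HH X (cokernel (tmap f (Mero.divMod D'))) 0) := by
    rw [euler_eq_sum (K := k) _ 1 fun p hp => subsingleton_HH_of_support _ hC hsupp' (d := 0) hd hp]
    simp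
  have h2 := (EulerIneqLib.ineqs (k := k) _ (DevLib.cokerSeq_shortExact (tmap f (Mero.divMod D'))) hI hL hQ').2.2 0
  have h3 := euler_tmod_sub (k := k) f hF hO (hcoh E) (hcoh D') hd
  have h4 := euler_shortExact (K := k) (DevLib.cokerSeq_shortExact (tmap f (Mero.divMod D'))) hI hL hQ'
  change Curv2.euler k X (tmod (Mero.divMod E) (Mero.divMod D')) =
    Curv2.euler k X (tmod (Coh.structureModule X) (Mero.divMod D')) + Curv2.euler k X (cokernel (tmap f (Mero.divMod D'))) at h4
  change Module.finrank k (Coh.HH X (tmod (Mero.divMod E) (Mero.divMod D')) 0) ≤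
    Module.finrank k (Coh.HH X (tmod (Coh.structureModule X) (Mero.divMod D')) 0) +
      Module.finrank k (Coh.HH X (cokernel (tmap f (Mero.divMod D'))) 0) at h2
  rw [← ShBCLib.finrank_HH_iso eD, ← ShBCLib.finrank_HH_iso eD']
  show _ ≤ _ + (Curv2.euler k X (Mero.divMod E) - ((1 : ℕ) : ℤ) * Curv2.euler k X (Coh.structureModule X))
  push_cast at h3 ⊢
  omega

end Groth.Agent.PointTwistLib
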