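import Groth.Agent.PointTwistLib.DivIncl
import Groth.Agent.MeroLib.ZeroDiv
import Groth.Agent.IdealStalkLib.Comap
import Groth.Agent.AmpleEmb.Generated
import Groth.Agent.S1570
import Groth.Agent.RegLocal.Basic
import Groth.Agent.FibreComp.DimSpace
import Groth.Agent.H1ZeroLib.Global

/-!
# Global generation of the module of an effective divisor on a curve
-/

set_option autoImplicit false
set_option backward.isDefEq.respectTransparency false
set_option backward.isDefEq.respectTransparency.types false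
set_option linter.style.haveILetI false
set_option maxHeartbeats 600000

universe u

open CategoryTheory CategoryTheory.Limits AlgebraicGeometry TopologicalSpace Opposite
open Groth.Agent.PullbackMod Groth.Agent.DCohLib Groth.Agent.CurveLib Groth.Agent.ParaFLib

noncomputable section

namespace Groth.Agent.PointTwistLib

variable {X : Scheme.{u}}

/-- A local generator of an ideal by a regular section. -/
structure LocGen (I : X.IdealSheafData) (x : X) where
  U : X.affineOpens
  mem : x ∈ (U : X.Opens)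
  f : Γ(X, U.1)
  reg : f ∈ Mero.regSub X U.1
  eq : I.ideal U = Ideal.span {f}

theorem stalk_span (I : X.IdealSheafData) {x : X} (d : LocGen I x) (y : (d.U : X.Opens)) :
    IntMult.stalkIdeal I y.1 = Ideal.span {X.presheaf.germ d.U.1 y.1 y.2 d.f} := by
  rw [IdealStalkLib.stalkIdeal_eq I d.U y.1 y.2, d.eq, Ideal.map_span, Set.image_singleton]

theorem germOf_regUnit_eq {W W' : X.Opens} {f : Γ(X, W)} {f' : Γ(X, W')} (hf : f ∈ Mero.regSub X W)
    (hf' : f' ∈ Mero.regSub X W') {z : X} (hz : z ∈ W) (hz' : z ∈ W')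
    (h : Ideal.span {X.presheaf.germ W z hz f} = Ideal.span {X.presheaf.germ W' z hz' f'}) :
    Mero.germOf (MeroLib.regUnit f hf) ⟨z, hz⟩ = Mero.germOf (MeroLib.regUnit f' hf') ⟨z, hz'⟩ := by
  obtain ⟨c, hc⟩ := Ideal.mem_span_singleton.1 (h.ge (Ideal.mem_span_singleton_self _))
  obtain ⟨d, hd⟩ := Ideal.mem_span_singleton.1 (h.le (Ideal.mem_span_singleton_self _))
  have hcd : c * d = 1 := by
    have h1 : X.presheaf.germ W z hz f * (1 - c * d) = 0 := by
      rw [mul_sub, mul_one, ← mul_assoc, ← hc, ← hd, sub_self]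
    exact (sub_eq_zero.1 (mem_nonZeroDivisors_iff_left.1 (hf ⟨z, hz⟩) _ h1)).symm
  refine QuotientGroup.eq.mpr ⟨⟨c, d, hcd, by rw [mul_comm]; exact hcd⟩, ?_⟩
  rw [eq_inv_mul_iff_mul_eq]
  refine Units.ext ?_
  rw [Units.val_mul]
  show Mero.evalK X W ⟨z, hz⟩ (MeroLib.regUnit f hf).val * algebraMap _ (Mero.KStalk X z) c =
    Mero.evalK X W' ⟨z, hz'⟩ (MeroLib.regUnit f' hf').val
  rw [MeroLib.evalK_regUnit, MeroLib.evalK_regUnit, ← map_mul, ← hc]

/-- The divisor of a locally principal ideal with regular generators. -/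
def idealDivisor {I : X.IdealSheafData} (d : ∀ x : X, LocGen I x) : Mero.Divisor X :=
  ⟨fun x => Mero.germOf (MeroLib.regUnit (d x).f (d x).reg) ⟨x, (d x).mem⟩, fun x =>
    ⟨(d x).U.1, (d x).mem, MeroLib.regUnit (d x).f (d x).reg, fun y =>
      germOf_regUnit_eq (d y.1).reg (d x).reg (d y.1).mem y.2
        ((stalk_span I (d y.1) ⟨y.1, (d y.1).mem⟩).symm.trans (stalk_span I (d x) y))⟩⟩

theorem isDivOfIdeal_idealDivisor {I : X.IdealSheafData} (d : ∀ x : X, LocGen I x) :
    Mero.IsDivOfIdeal (idealDivisor d) I := fun x =>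
  ⟨(d x).U, (d x).mem, (d x).f, (d x).reg, (d x).eq, fun y => by
    refine (germOf_regUnit_eq (d y.1).reg (d x).reg (d y.1).mem y.2
      ((stalk_span I (d y.1) ⟨y.1, (d y.1).mem⟩).symm.trans (stalk_span I (d x) y))).trans ?_
    exact congrArg _ (Units.ext (MeroLib.evalK_regUnit (d x).f (d x).reg y))⟩

/-- Local equation of the divisor of an ideal at a point. -/
theorem exists_eq_of_isDivOfIdeal {P : Mero.Divisor X} {I : X.IdealSheafData} (h : Mero.IsDivOfIdeal P I) (y : X) :
    ∃ (a : Mero.regStalk X y), IntMult.stalkIdeal I y = Ideal.span {a.1} ∧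
      P.1 y = QuotientGroup.mk (IsLocalization.map_units (Mero.KStalk X y) a).unit := by
  obtain ⟨U, hy, f, hf, hI, hP⟩ := h y
  exact ⟨Mero.regGerm ⟨y, hy⟩ ⟨f, hf⟩, by
    rw [IdealStalkLib.stalkIdeal_eq I U y hy, hI, Ideal.map_span, Set.image_singleton], hP ⟨y, hy⟩⟩

/-- A section of `O(D)` lies in `O(D - P)` exactly when its coordinates lie in the ideal of `P`. -/
theorem divCond_sub_iff (D P : Mero.Divisor X) {I : X.IdealSheafData} (hP : Mero.IsDivOfIdeal P I) (y : X)
    {U : X.Opens} (hy : y ∈ U) (t : Γ(Mero.divMod D, U)) :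
    Mero.DivCond (D * P⁻¹) y (t.1 ⟨y, hy⟩) ↔
      ∃ r ∈ IntMult.stalkIdeal I y, (Mero.divMod D).presheaf.germ U y hy t =
        r • (Mero.divMod D).presheaf.germ (MeroLib.deq D y).W y (MeroLib.deq D y).mem
          (MeroLib.invSec (MeroLib.deq D y).g (MeroLib.deq D y).hg) := by
  let d := MeroLib.deq D y
  let e := (Mero.divMod D).presheaf.germ d.W y d.mem (MeroLib.invSec d.g d.hg)
  have hb := (MeroLib.gen_invSec d.g d.hg).bijective_germ y d.mem
  obtain ⟨a, hI, hPy⟩ := exists_eq_of_isDivOfIdeal hP y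
  obtain ⟨r₀, hr₀⟩ := hb.2 ((Mero.divMod D).presheaf.germ U y hy t)
  dsimp only at hr₀
  have ht : t.1 ⟨y, hy⟩ = algebraMap _ (Mero.KStalk X y) r₀ *
      Mero.evalK X d.W ⟨y, d.mem⟩ (d.g⁻¹).val := by
    rw [← MeroLib.evalStalk_germ D ⟨y, hy⟩ t]
    show MeroLib.evalStalk D y ((Mero.divMod D).presheaf.germ U y hy t) = _
    rw [← hr₀, map_smul, MeroLib.evalStalk_germ D ⟨y, d.mem⟩, Algebra.smul_def]
    rfl
  let gy : (Mero.KStalk X y)ˣ := Units.map (Mero.evalK X d.W ⟨y, d.mem⟩).toMonoidHom d.g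
  let ay : (Mero.KStalk X y)ˣ := (IsLocalization.map_units (Mero.KStalk X y) a).unit
  have hDP : (D * P⁻¹).1 y = QuotientGroup.mk (gy * ay⁻¹) := by
    show D.1 y * (P.1 y)⁻¹ = _
    rw [d.hg ⟨y, d.mem⟩, hPy, QuotientGroup.mk_mul, QuotientGroup.mk_inv]
  have hcalc : t.1 ⟨y, hy⟩ * ((gy * ay⁻¹ : (Mero.KStalk X y)ˣ) : Mero.KStalk X y) =
      algebraMap _ (Mero.KStalk X y) r₀ * (ay⁻¹ : (Mero.KStalk X y)ˣ).val := by
    rw [ht, Units.val_mul, mul_assoc, ← mul_assoc (Mero.evalK X d.W ⟨y, d.mem⟩ (d.g⁻¹).val)]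
    show _ * (Mero.evalK X d.W ⟨y, d.mem⟩ (d.g⁻¹).val * Mero.evalK X d.W ⟨y, d.mem⟩ d.g.val * _) = _
    rw [← map_mul, Units.inv_mul, map_one, one_mul]
  constructor
  · intro h
    obtain ⟨c, hc⟩ := h _ hDP
    rw [hcalc] at hc
    refine ⟨r₀, ?_, hr₀.symm⟩
    rw [hI, Ideal.mem_span_singleton]
    refine ⟨c, Mero.algebraMap_KStalk_injective (X := X) y ?_⟩
    rw [map_mul, hc, mul_comm (algebraMap _ _ a.1), mul_assoc]
    refine (mul_one _).symm.trans (congrArg _ ?_)
    exact (IsUnit.val_inv_mul (IsLocalization.map_units (Mero.KStalk X y) a)).symm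
  · rintro ⟨r, hr, hrt⟩ g hg
    have hrr : r₀ = r := hb.1 (hr₀.trans hrt)
    rw [hI, Ideal.mem_span_singleton] at hr
    obtain ⟨c, rfl⟩ := hr
    rw [hDP] at hg
    obtain ⟨v, hv⟩ := QuotientGroup.eq.mp hg
    have hg' : g = gy * ay⁻¹ * Units.map (algebraMap (X.presheaf.stalk y) (Mero.KStalk X y)).toMonoidHom v := by
      rw [hv, mul_inv_cancel_left]
    refine ⟨c * v.1, ?_⟩
    rw [hg', Units.val_mul, ← mul_assoc, hcalc, hrr, map_mul, map_mul]
    refine congrArg (· * _) ?_
    rw [mul_comm (algebraMap _ _ a.1), mul_assoc]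
    refine (mul_one _).symm.trans (congrArg _ ?_)
    exact (IsUnit.mul_val_inv (IsLocalization.map_units (Mero.KStalk X y) a)).symm

/-- The inclusion `O(D - P) ⟶ O(D)`. -/
def inclSub (D P : Mero.Divisor X) (hP : Mero.IsEffective P) : Mero.divMod (D * P⁻¹) ⟶ Mero.divMod D :=
  ⟨PresheafOfModules.homMk (M₁ := (Mero.divMod (D * P⁻¹)).val) (M₂ := (Mero.divMod D).val)
    { app := fun U => AddCommGrpCat.ofHom
        { toFun := fun (f : Γ(Mero.divMod (D * P⁻¹), U.unop)) => (⟨f.1, f.2.1, fun y g hg => by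
            obtain ⟨a, ha⟩ := hP y.1
            let ay : (Mero.KStalk X y.1)ˣ := (IsLocalization.map_units (Mero.KStalk X y.1) a).unit
            have h1 : (D * P⁻¹).1 y.1 = QuotientGroup.mk (g * ay⁻¹) := by
              show D.1 y.1 * (P.1 y.1)⁻¹ = _
              rw [hg, ha, QuotientGroup.mk_mul, QuotientGroup.mk_inv]
            obtain ⟨c, hc⟩ := f.2.2 y _ h1
            refine ⟨c * a.1, ?_⟩
            rw [map_mul, hc, mul_assoc, Units.val_mul, mul_assoc (g : Mero.KStalk X y.1)]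
            refine congrArg (f.1 y * ·) ((congrArg ((g : Mero.KStalk X y.1) * ·) ?_).trans (mul_one _))
            exact IsUnit.val_inv_mul (IsLocalization.map_units (Mero.KStalk X y.1) a)⟩ : Γ(Mero.divMod D, U.unop))
          map_zero' := rfl
          map_add' := fun _ _ => rfl }
      naturality := by intros; rfl }
    (fun _ _ _ => rfl)⟩

theorem inclSub_app (D P : Mero.Divisor X) (hP : Mero.IsEffective P) {U : X.Opens} (f : Γ(Mero.divMod (D * P⁻¹), U))
    (y : U) : ((inclSub D P hP).app U f).1 y = f.1 y := rfl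

theorem exists_app_inclSub (D P : Mero.Divisor X) (hP : Mero.IsEffective P) (t : Γ(Mero.divMod D, ⊤))
    (h : ∀ y : X, Mero.DivCond (D * P⁻¹) y (t.1 ⟨y, trivial⟩)) :
    ∃ s : Γ(Mero.divMod (D * P⁻¹), ⊤), (inclSub D P hP).app ⊤ s = t :=
  ⟨⟨t.1, t.2.1, fun y => h y.1⟩, Subtype.ext rfl⟩

theorem mono_inclSub (D P : Mero.Divisor X) (hP : Mero.IsEffective P) : Mono (inclSub D P hP) := by
  refine (mono_iff_stalk (inclSub D P hP)).2 fun y => (injective_iff_map_eq_zero _).2 fun z hz => ?_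
  obtain ⟨U, hy, s, rfl⟩ := TopCat.Presheaf.exists_germ_eq (Mero.divMod (D * P⁻¹)).presheaf z
  rw [stalkLin_germ] at hz
  rw [← map_zero ((Mero.divMod D).presheaf.germ U y hy).hom] at hz
  obtain ⟨V, hyV, i1, i2, h12⟩ := TopCat.Presheaf.germ_eq (Mero.divMod D).presheaf y hy hy _ _ hz
  rw [map_zero] at h12
  have h3 : (Mero.divMod (D * P⁻¹)).presheaf.map i1.op s = 0 :=
    Subtype.ext (funext fun w => congrArg (fun t : Γ(Mero.divMod D, V) => t.1 w) h12)
  rw [← TopCat.Presheaf.germ_res_apply (Mero.divMod (D * P⁻¹)).presheaf i1 y hyV s, h3, map_zero]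

/-- Off the support the section `1` generates. -/
theorem span_one_eq_top (D : Mero.Divisor X) (hD : Mero.IsEffective D) {x : X} (hx : x ∉ Mero.supp D) :
    Submodule.span (X.presheaf.stalk x) {(Mero.divMod D).presheaf.germ ⊤ x trivial (S19458.one D hD)} = ⊤ := by
  have hbij : Function.Bijective (fun r : X.presheaf.stalk x =>
      r • (Mero.divMod D).presheaf.germ (MeroLib.deq D x).W x (MeroLib.deq D x).mem
        (MeroLib.invSec (MeroLib.deq D x).g (MeroLib.deq D x).hg)) :=
    (MeroLib.gen_invSec _ _).bijective_germ x (MeroLib.deq D x).mem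
  set d := MeroLib.deq D x
  obtain ⟨r, hr⟩ := hbij.2 ((Mero.divMod D).presheaf.germ ⊤ x trivial (S19458.one D hD))
  dsimp only at hr
  have h1 := congrArg (MeroLib.evalStalk D x) hr
  rw [map_smul, MeroLib.evalStalk_germ D ⟨x, d.mem⟩, MeroLib.evalStalk_germ D (⟨x, trivial⟩ : (⊤ : X.Opens))] at h1
  have hD1 : Mero.germOf d.g ⟨x, d.mem⟩ = 1 := (d.hg ⟨x, d.mem⟩).symm.trans (not_not.1 hx)
  obtain ⟨v, hv⟩ := (QuotientGroup.eq_one_iff _).1 hD1
  have hr1 : r = v.1 := by
    refine Mero.algebraMap_KStalk_injective (X := X) x ?_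
    change r • Mero.evalK X d.W ⟨x, d.mem⟩ (d.g⁻¹).val = 1 at h1
    rw [Algebra.smul_def] at h1
    have h2 := congrArg (· * Mero.evalK X d.W ⟨x, d.mem⟩ d.g.val) h1
    simp only [mul_assoc, ← map_mul, Units.inv_mul, map_one, mul_one, one_mul] at h2
    exact h2.trans (congrArg Units.val hv).symm
  rw [← hr, hr1, Submodule.span_singleton_smul_eq v.isUnit]
  exact eq_top_iff.2 fun z _ => by
    obtain ⟨s, rfl⟩ := hbij.2 z
    exact Submodule.mem_span_singleton.2 ⟨s, rfl⟩

variable {k : Type u} [Field k] [X.Over (Spec (CommRingCat.of k))] [IsProper (X ↘ Spec (CommRingCat.of k))]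

include k in
theorem supp_closed (hdim : topologicalKrullDim X ≤ 1) (D : Mero.Divisor X) (hD : Mero.IsEffective D) {x : X}
    (hx : x ∈ Mero.supp D) : IsClosed ({x} : Set X) ∧ ¬ ringKrullDim (X.presheaf.stalk x) ≤ 0 := by
  haveI := EulerIneqLib.isNoetherian_proper (X := X) k
  obtain ⟨a, ha⟩ := hD x
  have hnu : ¬ IsUnit a.1 := fun hu => hx (ha.trans ((QuotientGroup.eq_one_iff _).2
    ⟨hu.unit, Units.ext rfl⟩))
  have hd0 : ¬ ringKrullDim (X.presheaf.stalk x) ≤ 0 := fun h0 => hnu (MeroLib.isUnit_of_dim_zero h0 a.1 (by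
    obtain ⟨U, hxU, f, hf, hfa⟩ := a.2
    exact hfa ▸ hf ⟨x, hxU⟩))
  refine ⟨?_, hd0⟩
  by_contra hnc
  obtain ⟨c, hc, hxc⟩ := MeroLib.exists_closed_specialization x
  refine hd0 ?_
  rw [ringKrullDim_stalk_eq_coheight]
  have hlt : c < x := lt_of_le_not_ge (show c ≤ x from hxc) fun h =>
    hnc ((hxc.antisymm (show c ⤳ x from h)).eq ▸ hc)
  have h0 := (FibreComp.ringKrullDim_stalk_le_topologicalKrullDim c).trans hdim
  rw [ringKrullDim_stalk_eq_coheight] at h0
  have h1 := (WithBot.coe_le_coe.2 (Order.coheight_add_one_le hlt)).trans h0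
  have h2 : Order.coheight x + 1 ≤ 1 := WithBot.coe_le_coe.1 h1
  have h3 : Order.coheight x = 0 := by
    cases hh : Order.coheight x with
    | top => rw [hh] at h2; simp at h2
    | coe n => rw [hh] at h2; norm_cast at h2 ⊢; omega
  rw [h3]; rfl

/-- A monomorphism loses sections exactly when some section does not lift. -/
theorem h0_lt_iff {M N : X.Modules} (j : M ⟶ N) [Mono j] (hN : Coh.IsCoh N) :
    Module.finrank k (Coh.HH X M 0) < Module.finrank k (Coh.HH X N 0) ↔
      ∃ t : Γ(N, ⊤), ∀ s : Γ(M, ⊤), j.app ⊤ s ≠ t := by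
  haveI := EulerIneqLib.isNoetherian_proper (X := X) k
  haveI := EulerIneqLib.finite_HH (k := k) hN 0
  haveI : Module.Finite k (Coh.HH X (DevLib.cokerSeq j).X₂ 0) := EulerIneqLib.finite_HH (k := k) hN 0
  have hφ : Function.Injective (hMap (k := k) (DevLib.cokerSeq j).f 0) :=
    hMap_f_zero_injective (DevLib.cokerSeq_shortExact j)
  constructor
  · intro h
    by_contra hno
    push Not at hno
    refine h.ne (LinearEquiv.ofBijective _ ⟨hφ, fun c => ?_⟩).finrank_eq
    obtain ⟨s, hs⟩ := hno (secOf N c)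
    refine ⟨(secOf M).symm s, (secOf N).injective ?_⟩
    refine (secOf_hMap (k := k) j _).trans ?_
    rw [AddEquiv.apply_symm_apply]
    exact hs
  · rintro ⟨t, ht⟩
    refine lt_of_le_of_ne (LinearMap.finrank_le_finrank_of_injective hφ) fun he => ?_
    haveI : Module.Finite k (Coh.HH X M 0) := Module.Finite.of_injective (hMap (k := k) (DevLib.cokerSeq j).f 0) hφ
    haveI : Module.Finite k (Coh.HH X (DevLib.cokerSeq j).X₁ 0) := inferInstanceAs (Module.Finite k (Coh.HH X M 0))
    obtain ⟨c, hc⟩ := (LinearMap.injective_iff_surjective_of_finrank_eq_finrank he).1 hφ ((secOf N).symm t)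
    refine ht (secOf M c) ?_
    refine (secOf_hMap (k := k) j c).symm.trans ?_
    exact (congrArg (secOf N) hc).trans (AddEquiv.apply_symm_apply _ _)

/-- The drop of `h⁰` at a point. -/
theorem drop_iff (D : Mero.Divisor X) {x : X} (hx : IsClosed ({x} : Set X)) (P : Mero.Divisor X)
    (hP : Mero.IsDivOfIdeal P (Scheme.IdealSheafData.vanishingIdeal (⟨{x}, hx⟩ : Closeds X))) :
    Module.finrank k (Coh.HH X (Mero.divMod (D * P⁻¹)) 0) < Module.finrank k (Coh.HH X (Mero.divMod D) 0) ↔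
      ∃ t : Γ(Mero.divMod D, ⊤),
        Submodule.span (X.presheaf.stalk x) {(Mero.divMod D).presheaf.germ ⊤ x trivial t} = ⊤ := by
  haveI := EulerIneqLib.isNoetherian_proper (X := X) k
  have hcoh : ∀ D₀ : Mero.Divisor X, Coh.IsCoh (Mero.divMod D₀) := fun D₀ => CurveLib.isCoh_of_isFinLocFree fun y => by
    obtain ⟨U, hy, h⟩ := CurveLib.isFinLocFreeOfRank_one (S5096.result X D₀) y
    exact ⟨U, 1, hy, h⟩
  have hPe : Mero.IsEffective P := fun y => by
    obtain ⟨a, -, ha⟩ := exists_eq_of_isDivOfIdeal hP y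
    exact ⟨a, ha⟩
  obtain ⟨hJx, hJy⟩ := CliffCurveLib.stalkIdeal_point hx
  haveI : Mono (inclSub D P hPe) := mono_inclSub D P hPe
  rw [h0_lt_iff (k := k) (inclSub D P hPe) (hcoh D)]
  constructor
  · rintro ⟨t, hT⟩
    by_contra hno
    push Not at hno
    refine (fun ⟨s, hs⟩ => hT s hs) (?_ : ∃ s, (inclSub D P hPe).app ⊤ s = t)
    refine exists_app_inclSub D P hPe t fun y => ?_
    refine (divCond_sub_iff D P hP y (U := ⊤) trivial t).2 ?_
    have hb := (MeroLib.gen_invSec (MeroLib.deq D y).g (MeroLib.deq D y).hg).bijective_germ y (MeroLib.deq D y).mem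
    obtain ⟨r, hr⟩ := hb.2 ((Mero.divMod D).presheaf.germ ⊤ y trivial t)
    refine ⟨r, ?_, hr.symm⟩
    by_cases hyx : y = x
    · subst hyx
      rw [hJx]
      by_contra hru
      refine hno t (eq_top_iff.2 fun z _ => ?_)
      obtain ⟨s, rfl⟩ := hb.2 z
      obtain ⟨u, rfl⟩ := not_not.1 fun hn => hru ((IsLocalRing.mem_maximalIdeal _).2 hn)
      dsimp only at hr
      rw [← hr, Submodule.span_singleton_smul_eq u.isUnit]
      exact Submodule.mem_span_singleton.2 ⟨s, rfl⟩
    · rw [hJy y hyx]; trivial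
  · rintro ⟨t, ht⟩
    refine ⟨t, fun f hf => ?_⟩
    have h2 : ∀ f : Γ(Mero.divMod (D * P⁻¹), ⊤), (inclSub D P hPe).app ⊤ f = t →
        Mero.DivCond (D * P⁻¹) x (t.1 ⟨x, trivial⟩) := fun f hf => by
      rw [← hf, inclSub_app]
      exact f.2.2 ⟨x, trivial⟩
    obtain ⟨r, hr, hrt⟩ := (divCond_sub_iff D P hP x (U := ⊤) trivial t).1 (h2 f hf)
    rw [hJx] at hr
    have hb := (MeroLib.gen_invSec (MeroLib.deq D x).g (MeroLib.deq D x).hg).bijective_germ x (MeroLib.deq D x).mem
    set e := (Mero.divMod D).presheaf.germ (MeroLib.deq D x).W x (MeroLib.deq D x).mem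
      (MeroLib.invSec (MeroLib.deq D x).g (MeroLib.deq D x).hg)
    have he : e ∈ Submodule.span (X.presheaf.stalk x) {(Mero.divMod D).presheaf.germ ⊤ x trivial t} := ht ▸ trivial
    obtain ⟨s, hse⟩ := Submodule.mem_span_singleton.1 he
    rw [hrt, smul_smul] at hse
    have h3 : s * r = 1 := hb.1 (hse.trans (one_smul _ e).symm)
    exact (IsLocalRing.mem_maximalIdeal _).1 hr (isUnit_iff_exists_inv'.2 ⟨s, h3⟩)

/-- Global generation of an effective divisor with regular support, by dropping of `h⁰`. -/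
theorem gg_iff_drop (hdim : topologicalKrullDim X ≤ 1) (D : Mero.Divisor X) (hD : Mero.IsEffective D)
    (hreg : ∀ x ∈ Mero.supp D, IsRegularLocalRing (X.presheaf.stalk x)) :
    Curv2.IsGloballyGenerated (Mero.divMod D) ↔
      ∀ x ∈ Mero.supp D, ∀ P : Mero.Divisor X, Mero.IsDivOfIdeal P (X.fromSpecResidueField x).ker →
        Module.finrank k (Coh.HH X (Mero.divMod (D * P⁻¹)) 0) < Module.finrank k (Coh.HH X (Mero.divMod D) 0) := by
  classical
  haveI := EulerIneqLib.isNoetherian_proper (X := X) k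
  have hcoh : ∀ D₀ : Mero.Divisor X, Coh.IsCoh (Mero.divMod D₀) := fun D₀ => CurveLib.isCoh_of_isFinLocFree fun y => by
    obtain ⟨U, hy, h⟩ := CurveLib.isFinLocFreeOfRank_one (S5096.result X D₀) y
    exact ⟨U, 1, hy, h⟩
  constructor
  · intro hgg x hx P hP
    obtain ⟨hxc, -⟩ := supp_closed (k := k) hdim D hD hx
    rw [ker_fromSpecResidueField (k := k) hxc] at hP
    refine (drop_iff (k := k) D hxc P hP).2 ?_
    by_contra hno
    push Not at hno
    have hb := (MeroLib.gen_invSec (MeroLib.deq D x).g (MeroLib.deq D x).hg).bijective_germ x (MeroLib.deq D x).mem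
    set e := (Mero.divMod D).presheaf.germ (MeroLib.deq D x).W x (MeroLib.deq D x).mem
        (MeroLib.invSec (MeroLib.deq D x).g (MeroLib.deq D x).hg)
    let M := IsLocalRing.maximalIdeal (X.presheaf.stalk x) •
      (⊤ : Submodule (X.presheaf.stalk x) ((Mero.divMod D).presheaf.stalk x))
    have hle : (⊤ : Submodule (X.presheaf.stalk x) ((Mero.divMod D).presheaf.stalk x)) ≤ M := by
      rw [← H1ZeroLib.iSup_range_sections hgg x]
      refine iSup_le fun σ => ?_
      rintro _ ⟨w, rfl⟩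
      obtain ⟨c, rfl⟩ := (bijective_oneG x).2 w
      show stalkLin σ x (c • oneG x) ∈ M
      rw [map_smul]
      refine Submodule.smul_mem _ _ ?_
      rw [← AmpleLib.secHom_sec σ, stalkLin_secHom]
      obtain ⟨r, hr⟩ := hb.2 ((Mero.divMod D).presheaf.germ ⊤ x trivial (AmpleLib.sec σ))
      dsimp only at hr
      rw [← hr]
      refine Submodule.smul_mem_smul ?_ Submodule.mem_top
      by_contra hru
      refine hno (AmpleLib.sec σ) (eq_top_iff.2 fun z _ => ?_)
      obtain ⟨s, rfl⟩ := hb.2 z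
      obtain ⟨u, rfl⟩ := not_not.1 fun hn => hru ((IsLocalRing.mem_maximalIdeal _).2 hn)
      rw [← hr, Submodule.span_singleton_smul_eq u.isUnit]
      exact Submodule.mem_span_singleton.2 ⟨s, rfl⟩
    have hM : ∀ z ∈ M, ∃ r ∈ IsLocalRing.maximalIdeal (X.presheaf.stalk x), z = r • e := fun z hz => by
      refine Submodule.smul_induction_on hz (fun r hr w _ => ?_) fun a b ⟨ra, hra, ha⟩ ⟨rb, hrb, hb'⟩ => ?_
      · obtain ⟨s, rfl⟩ := hb.2 w
        exact ⟨r * s, Ideal.mul_mem_right _ _ hr, by rw [mul_smul]⟩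
      · exact ⟨ra + rb, add_mem hra hrb, by rw [ha, hb', add_smul]⟩
    obtain ⟨r, hr, hre⟩ := hM e (hle trivial)
    exact (IsLocalRing.maximalIdeal.isMaximal _).ne_top ((Ideal.eq_top_iff_one _).2
      (hb.1 (hre.symm.trans (one_smul _ e).symm) ▸ hr))
  · intro h
    refine AmpleEmb.isGloballyGenerated_of_span (ι := Γ(Mero.divMod D, ⊤)) id fun x => ?_
    suffices h' : ∃ t : Γ(Mero.divMod D, ⊤),
        Submodule.span (X.presheaf.stalk x) {(Mero.divMod D).presheaf.germ ⊤ x trivial t} = ⊤ by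
      obtain ⟨t, ht⟩ := h'
      exact eq_top_iff.2 (ht.ge.trans (Submodule.span_mono (Set.singleton_subset_iff.2 ⟨t, rfl⟩)))
    by_cases hx : x ∈ Mero.supp D
    · obtain ⟨hxc, hd0⟩ := supp_closed (k := k) hdim D hD hx
      haveI := hreg x hx
      obtain ⟨hJx, hJy⟩ := CliffCurveLib.stalkIdeal_point hxc
      let J := Scheme.IdealSheafData.vanishingIdeal (⟨{x}, hxc⟩ : Closeds X)
      obtain ⟨n, hn⟩ : ∃ n : ℕ, ringKrullDim (X.presheaf.stalk x) = n :=
        ⟨_, (IsRegularLocalRing.spanFinrank_maximalIdeal (R := X.presheaf.stalk x)).symm⟩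
      haveI : IsDomain (X.presheaf.stalk x) := RegLocal.isDomain_aux n _ hn
      have hn1 : n = 1 := by
        have h1 := (FibreComp.ringKrullDim_stalk_le_topologicalKrullDim x).trans hdim
        rw [hn] at h1 hd0
        have h1' : n ≤ 1 := by exact_mod_cast h1
        have : ¬ n ≤ 0 := fun h0 => hd0 (by exact_mod_cast h0)
        omega
      have hs : (IsLocalRing.maximalIdeal (X.presheaf.stalk x)).spanFinrank = 1 := by
        have := IsRegularLocalRing.spanFinrank_maximalIdeal (R := X.presheaf.stalk x)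
        rw [hn, hn1] at this
        exact_mod_cast this
      obtain ⟨T, hcard, hspan⟩ : ∃ T : Set (X.presheaf.stalk x), T.ncard = 1 ∧
          Ideal.span T = IsLocalRing.maximalIdeal (X.presheaf.stalk x) :=
        ⟨_, (Submodule.FG.generators_ncard (IsLocalRing.maximalIdeal _).fg_of_isNoetherianRing).trans hs,
          Submodule.span_generators _⟩
      obtain ⟨g, rfl⟩ := Set.ncard_eq_one.1 hcard
      have hg0 : g ∈ nonZeroDivisors (X.presheaf.stalk x) := mem_nonZeroDivisors_of_ne_zero fun hg => hd0 (by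
        rw [ringKrullDim_eq_zero_of_isField (IsLocalRing.isField_iff_maximalIdeal_eq.2 (by rw [← hspan, hg]; simp))])
      have hcart : BlowUp.IsEffCartierIdeal J := S1570.result X J fun y hy U hyU => by
        rw [← SetLike.mem_coe, Scheme.IdealSheafData.coe_support_vanishingIdeal] at hy
        obtain rfl : y = x := hy
        exact ⟨g, hg0, by rw [← IdealStalkLib.stalkIdeal_eq J U y hyU]; exact hJx.trans hspan.symm⟩
      have hd : ∀ y : X, Nonempty (LocGen J y) := fun y => by
        obtain ⟨U, hyU, f, hf, hfI⟩ := hcart y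
        refine ⟨⟨U, hyU, f, fun w => ?_, hfI⟩⟩
        by_cases hw : w.1 = x
        · have h2 : IntMult.stalkIdeal J w.1 = Ideal.span {X.presheaf.germ U.1 w.1 w.2 f} := by
            rw [IdealStalkLib.stalkIdeal_eq J U w.1 w.2, hfI, Ideal.map_span, Set.image_singleton]
          obtain ⟨w, hwU⟩ := w
          obtain rfl : w = x := hw
          rw [hJx] at h2
          refine mem_nonZeroDivisors_of_ne_zero fun h0 => hd0 ?_
          rw [ringKrullDim_eq_zero_of_isField (IsLocalRing.isField_iff_maximalIdeal_eq.2 (by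
            rw [h2]; show Ideal.span {X.presheaf.germ U.1 w hwU f} = ⊥; rw [h0]; simp))]
        · have h2 : IntMult.stalkIdeal J w.1 = Ideal.span {X.presheaf.germ U.1 w.1 w.2 f} := by
            rw [IdealStalkLib.stalkIdeal_eq J U w.1 w.2, hfI, Ideal.map_span, Set.image_singleton]
          rw [hJy w.1 hw] at h2
          exact IsUnit.mem_nonZeroDivisors (Ideal.span_singleton_eq_top.1 h2.symm)
      let d := fun y => (hd y).some
      have hP := isDivOfIdeal_idealDivisor d
      exact (drop_iff (k := k) D hxc _ hP).1 (h x hx _ (by rw [ker_fromSpecResidueField (k := k) hxc]; exact hP))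
    · exact ⟨S19458.one D hD, span_one_eq_top D hD hx⟩

end Groth.Agent.PointTwistLib
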